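import Mathlib
import Cfsg.Agent.Base
import Cfsg.Agent.Lib.NCor.Soc
import Cfsg.Agent.S2601
import Cfsg.Agent.S2602
import Cfsg.Agent.S2603
import Cfsg.Agent.S2119
import Cfsg.Agent.S2126
import Cfsg.Agent.S2060

/-! Some simple groups with abelian outer automorphism group. -/

set_option autoImplicit false
set_option linter.unusedSectionVars false
set_option linter.unusedVariables false

namespace H50.NC

open Subgroup Cfsg Matrix
open scoped MatrixGroups

variable {F : Type*} [Field F] [Fintype F]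

theorem oc_l2 (h : 4 ≤ Fintype.card F) : OC PSL(2, F) := by
  obtain ⟨p, hp, n, hp', hn⟩ := FiniteField.card' F
  have : Fact p.Prime := ⟨hp'⟩
  obtain ⟨φ, -, -, h3⟩ := Cfsg.Agent.S2602.result (p := p) (f := n) n.2 hn (hn ▸ h)
  exact comm_of_cyclic_quot φ (h3 ▸ (Nat.dvd_prime Nat.prime_two).1 (Nat.gcd_dvd_left 2 _))

theorem comm_of_inj {X Y : Type*} [Group X] [Group Y] (f : X →* Y) (h : Nat.card f.ker = 1)
    (hY : IsMulCommutative Y) : IsMulCommutative X :=
  ⟨⟨fun a b => (MonoidHom.ker_eq_bot_iff f).1 (card_eq_one.1 h) (by rw [map_mul, map_mul, hY.is_comm.comm])⟩⟩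

theorem oc_l33 (h : Fintype.card F = 3) : OC PSL(3, F) := by
  have : Fact (Nat.Prime 3) := ⟨by norm_num⟩
  obtain ⟨φ, -, -, h3⟩ := Cfsg.Agent.S2601.result (F := F) (p := 3) (f := 1) (n := 3) le_rfl (by simpa using h) le_rfl
  exact comm_of_inj φ (by rw [h3]; norm_num) inferInstance

theorem oc_u33 (h : Fintype.card F = 3 ^ 2) : OC (PSU 3 F 3) := by
  have : Fact (Nat.Prime 3) := ⟨by norm_num⟩
  obtain ⟨φ, -, -, h3⟩ := Cfsg.Agent.S2603.result (K := F) (p := 3) (f := 1) (n := 3) (q := 3) le_rfl rfl h le_rfl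
    (by norm_num)
  exact comm_of_inj φ (by rw [h3]; norm_num) inferInstance

theorem oc_u34 (h : Fintype.card F = 4 ^ 2) : OC (PSU 3 F 4) := by
  obtain ⟨φ, -, -, h3⟩ := Cfsg.Agent.S2603.result (K := F) (p := 2) (f := 2) (n := 3) (q := 4) (by norm_num) rfl h
    le_rfl (by norm_num)
  exact comm_of_inj φ (by rw [h3]; norm_num) inferInstance

theorem oc_sz8 (h : Fintype.card F = 2 ^ (2 * 1 + 1)) : OC (Lie.Sz F (2 ^ (1 + 1))) := by
  have : Fact (Nat.Prime 3) := ⟨by norm_num⟩
  have := isCyclic_of_prime_card (p := 3) (Cfsg.Agent.S2126.result (F := F) (m := 1) le_rfl h)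
  exact this.isMulCommutative

theorem oc_m11 : OC Spor.M11 := by
  have := (Nat.card_eq_one_iff_unique.1 Cfsg.Agent.S2060.result).1
  exact ⟨⟨fun a b => Subsingleton.elim _ _⟩⟩

theorem oc_alt (n : ℕ) (hn : 4 ≤ n) (h6 : n ≠ 6) : OC (alternatingGroup (Fin n)) := by
  have hs : Function.Surjective (toOut (alternatingGroup (Fin n))) :=
    (QuotientGroup.mk'_surjective _).comp (Cfsg.Agent.S2119.result n hn h6).2
  refine ⟨⟨fun a b => ?_⟩⟩
  obtain ⟨a, rfl⟩ := hs a
  obtain ⟨b, rfl⟩ := hs b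
  rw [← commutatorElement_eq_one_iff_mul_comm, ← map_commutatorElement, ← MonoidHom.mem_ker, ker_toOut]
  refine mem_sup_left (Equiv.Perm.mem_alternatingGroup.2 ?_)
  rw [map_commutatorElement, commutatorElement_eq_one_iff_mul_comm]
  exact mul_comm _ _

end H50.NC
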