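import Mathlib
import Cfsg.Agent.Lib.NCor.TwoA
import Cfsg.Agent.Lib.CIT.Cls1

/-! Simple groups all of whose class sizes have at most two prime divisors. -/

set_option autoImplicit false
set_option linter.unusedSectionVars false

namespace H50.TP

open Subgroup Cfsg H80 H35 H32
open scoped Pointwise

variable {G : Type*} [Group G] [Finite G]

local notation "𝐂(" Q ")" => centralizer ((Q : Subgroup G) : Set G)
local notation "𝐍(" Q ")" => normalizer ((Q : Subgroup G) : Set G)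

/-- no class size has three prime divisors. -/
def T2 (G : Type*) [Group G] : Prop :=
  ∀ (x : G) (p q r : ℕ), p.Prime → q.Prime → r.Prime → p ∣ cs⟦x⟧ → q ∣ cs⟦x⟧ → r ∣ cs⟦x⟧ → p = q ∨ p = r ∨ q = r

theorem T2.sub (h : T2 G) (N : Subgroup G) [N.Normal] : T2 N := fun x p q r hp hq hr a b c =>
  have := cs_subtype_dvd N x
  h x p q r hp hq hr (a.trans this) (b.trans this) (c.trans this)

theorem T2.surj {H : Type*} [Group H] {f : G →* H} (hf : Function.Surjective f) (h : T2 G) : T2 H :=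
  fun x p q r hp hq hr a b c => by
    obtain ⟨x, rfl⟩ := hf x
    have := cs_map_dvd hf x
    exact h x p q r hp hq hr (a.trans this) (b.trans this) (c.trans this)

theorem cnt {p : ℕ} [Fact p.Prime] (P : Sylow p G) :
    (𝐂(P)).relIndex 𝐍(P) * {x : G | ¬ p ∣ cs⟦x⟧}.ncard ≤ Nat.card G := by
  classical
  have h1 : ∀ x : G, ∃ Q : Sylow p G, ¬ p ∣ cs⟦x⟧ → (Q : Subgroup G) ≤ Cx⟦x⟧ := fun x => by
    by_cases hx : p ∣ cs⟦x⟧
    · exact ⟨P, fun h => absurd hx h⟩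
    · exact (not_dvd_cs_iff.1 hx).imp fun _ h _ => h
  choose f hf using h1
  have h2 := ncard_le_mul_of_fiber {x : G | ¬ p ∣ cs⟦x⟧} Set.univ f (fun _ _ => trivial) (Nat.card 𝐂(P)) (fun Q _ => by
    obtain ⟨g, rfl⟩ := MulAction.exists_smul_eq G P Q
    rw [← H1.card_conj_smul g, ← H1.centralizer_conj_smul, ← ncard_coe_subgroup]
    exact Set.ncard_le_ncard fun x hx => le_Cx_iff.1 (hx.2 ▸ hf x hx.1 :))
  rw [Set.ncard_univ, P.card_eq_index_normalizer] at h2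
  refine (Nat.mul_le_mul_left _ h2).trans_eq ?_
  rw [← mul_assoc, H3.relIndex_mul_card (centralizer_le_normalizer _)]
  exact card_mul_index _

theorem index_center_dvd (P : Subgroup G) : (center P).index ∣ (𝐂(P)).relIndex 𝐍(P) := by
  have : center P = (𝐂(P)).subgroupOf P := by
    ext x
    rw [mem_center_iff, mem_subgroupOf, mem_centralizer_iff]
    exact ⟨fun h g hg => congrArg Subtype.val (h ⟨g, hg⟩), fun h g => Subtype.ext (h g g.2)⟩
  rw [this]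
  have := relIndex_dvd_index_of_normal ((𝐂(P)).subgroupOf 𝐍(P)) (P.subgroupOf 𝐍(P))
  rwa [relIndex_subgroupOf le_normalizer] at this

theorem not_cyc {P : Subgroup G} (h : ¬ P ≤ 𝐂(P)) : ¬ IsCyclic (P ⧸ center P) := fun _ => h fun x hx y hy =>
  congrArg Subtype.val ((MonoidHom.isMulCommutative_of_isCyclic_of_ker_le_center (QuotientGroup.mk' (center P))
    (QuotientGroup.ker_mk' _).le).is_comm.comm ⟨y, hy⟩ ⟨x, hx⟩)

theorem sq_dvd {p : ℕ} [hp : Fact p.Prime] {P : Subgroup G} (hP : IsPGroup p P) (h : ¬ P ≤ 𝐂(P)) :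
    p ^ 2 ∣ (center P).index := by
  obtain ⟨k, hk⟩ := IsPGroup.iff_card.1 (hP.to_quotient (center P))
  rw [index, hk]
  refine pow_dvd_pow p (not_lt.1 fun e => not_cyc h (isCyclic_of_card_dvd_prime (p := p) ?_))
  rw [hk]
  simpa using pow_dvd_pow p (show k ≤ 1 by omega)

theorem sq_mem {P : Subgroup G} (h : ¬ P ≤ 𝐂(P)) (h4 : (center P).index = 2 ^ 2) {x : G} (hx : x ∈ P) : x * x ∈ 𝐂(P) := by
  have h1 := (not_isCyclic_iff_exponent_eq_prime Nat.prime_two h4).1 (not_cyc h)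
  have h2 : (⟨x, hx⟩ * ⟨x, hx⟩ : P) ∈ center P := by
    rw [← QuotientGroup.eq_one_iff, QuotientGroup.mk_mul, ← pow_two, ← h1, Monoid.pow_exponent_eq_one]
  exact fun g hg => congrArg Subtype.val (mem_center_iff.1 h2 ⟨g, hg⟩)

theorem le_cent {p : ℕ} [Fact p.Prime] {P : Sylow p G} (h : (P : Subgroup G) ≤ 𝐂(P)) (Q : Sylow p G) :
    (Q : Subgroup G) ≤ 𝐂(Q) := by
  obtain ⟨g, rfl⟩ := MulAction.exists_smul_eq G P Q
  rw [Sylow.coe_subgroup_smul, H1.centralizer_conj_smul]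
  exact smul_mono_right _ h

theorem not_dvd_cs {p : ℕ} [Fact p.Prime] {P : Sylow p G} (h : (P : Subgroup G) ≤ 𝐂(P)) {x : G} (hx : IsPElt p x) :
    ¬ p ∣ cs⟦x⟧ := by
  obtain ⟨Q, hQ⟩ := hx.exists_sylow
  exact not_dvd_cs_iff.2 ⟨Q, le_Cx_iff.2 (le_cent h Q hQ)⟩

section simple
variable [IsSimpleGroup G] (hZ : center G = ⊥)
include hZ

theorem exists_pr {x : G} (hx : x ≠ 1) {p : ℕ} (hp : p.Prime) : ∃ s : ℕ, s.Prime ∧ s ≠ p ∧ s ∣ cs⟦x⟧ := by
  by_contra h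
  push Not at h
  refine hx (mem_bot.1 (hZ ▸ mem_center_iff.2 fun g => H8.comm_of_simple_of_index_eq_pow hp hx
    (Nat.eq_prime_pow_of_unique_prime_dvd (cs_ne_zero x) fun {d} hd e => by_contra fun e' => h d hd e' e) g x))

theorem two_le {p : ℕ} [hp : Fact p.Prime] (hd : p ∣ Nat.card G) (P : Sylow p G) : ¬ 𝐍(P) ≤ 𝐂(P) := fun h => by
  have hc := MonoidHom.ker_transferSylow_isComplement' P h
  rcases (inferInstance : (MonoidHom.transferSylow P h).ker.Normal).eq_bot_or_eq_top with e | e <;> rw [e] at hc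
  · have e := isComplement'_bot_left.1 hc
    refine P.ne_bot_of_dvd_card hd (eq_bot_iff.2 fun x hx => hZ ▸ mem_center_iff.2 fun g => ?_)
    exact h (le_normalizer hx) g (e ▸ mem_top g)
  · exact P.ne_bot_of_dvd_card hd (isComplement'_top_left.1 hc)

variable (h : T2 G)
include h

theorem T2.same {x y : G} (hx : x ≠ 1) (e : cs⟦x⟧ ∣ cs⟦y⟧) {p : ℕ} (hp : p.Prime) (d : p ∣ cs⟦y⟧) : p ∣ cs⟦x⟧ := by
  obtain ⟨s, s1, -, s2⟩ := exists_pr hZ hx hp
  obtain ⟨t, t1, t2, t3⟩ := exists_pr hZ hx s1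
  rcases h y p s t hp s1 t1 d (s2.trans e) (t3.trans e) with rfl | rfl | rfl
  exacts [s2, t3, absurd rfl t2]

theorem T2.cop {x y : G} (hx : x ≠ 1) (c : Commute x y) (o : (orderOf x).Coprime (orderOf y)) {p : ℕ} (hp : p.Prime)
    (d : p ∣ cs⟦y⟧) : p ∣ cs⟦x⟧ :=
  h.same hZ hx (cs_dvd_cs_mul_left c o) hp (d.trans (cs_dvd_cs_mul_right c o))

theorem T2.tr {s : ℕ} (hs : s.Prime) {x y : G} (o : ¬ s ∣ orderOf x) (hx : ¬ s ∣ cs⟦x⟧) (hy : IsPElt s y) (y1 : y ≠ 1)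
    {p : ℕ} (hp : p.Prime) (d : p ∣ cs⟦x⟧) : p ∣ cs⟦y⟧ := by
  have := Fact.mk hs
  obtain ⟨S, hS⟩ := not_dvd_cs_iff.1 hx
  obtain ⟨g, hg⟩ := hy.exists_conj_mem S
  rw [← cs_conj g y]
  exact h.cop hZ (by simpa using y1) (mem_Cx_iff_commute'.1 (hS hg)) (coprime_orderOf (hy.conj g) o) hp d

theorem T2.four {p q r s : ℕ} (hp : p.Prime) (hq : q.Prime) (hr : r.Prime) (hs : s.Prime) (dp : p ∣ Nat.card G)
    (dq : q ∣ Nat.card G) (dr : r ∣ Nat.card G) (n1 : p ≠ q) (n2 : p ≠ r) (n3 : p ≠ s) (n4 : q ≠ r) (n5 : q ≠ s)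
    (n6 : r ≠ s) {y : G} (hy : orderOf y = s) : q ∣ cs⟦y⟧ ∧ r ∣ cs⟦y⟧ := by
  have := Fact.mk hp
  have := Fact.mk hq
  have := Fact.mk hr
  obtain ⟨x, hx⟩ : ∃ x : G, q ∣ cs⟦x⟧ ∧ r ∣ cs⟦x⟧ := by
    by_contra e
    exact (ito_or (fun x => not_and_or.1 (not_exists.1 e x)) default default).elim (two_le hZ dq _) (two_le hZ dr _)
  have x1 : x ≠ 1 := fun e => hq.not_dvd_one (by simpa [e, cs_one] using hx.1)
  obtain ⟨l, u, l1, -, u1, u2, u3⟩ := exists_pElt_zpowers (H := ⊥) x1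
  have key : ∀ {s l : ℕ} {u y : G}, s.Prime → l.Prime → l ≠ s → q ≠ s → r ≠ s → IsPElt l u → q ∣ cs⟦u⟧ ∧ r ∣ cs⟦u⟧ →
      orderOf y = s → q ∣ cs⟦y⟧ ∧ r ∣ cs⟦y⟧ := fun {s l u y} hs hl n n5 n6 hu d hy =>
    have := fun p hp d' => h.tr hZ hs (not_dvd_of_pElt hs hl n hu)
      (fun e => by rcases h u q r s hq hr hs d.1 d.2 e with e | e | e <;> contradiction) (pElt_of_prime hy)
      (ne_one_of_prime (hy ▸ hs)) (p := p) hp d'
    ⟨this q hq d.1, this r hr d.2⟩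
  have d : q ∣ cs⟦u⟧ ∧ r ∣ cs⟦u⟧ :=
    ⟨h.same hZ u3 (cs_dvd_of_mem_zpowers u2) hq hx.1, h.same hZ u3 (cs_dvd_of_mem_zpowers u2) hr hx.2⟩
  by_cases e : l = s
  · obtain ⟨v, hv⟩ := exists_prime_orderOf_dvd_card' p dp
    exact key hs hp n3 n5 n6 (pElt_of_prime hv) (key hp l1 (e ▸ n3.symm) n1.symm n2.symm u1 d hv) hy
  · exact key hs l1 e n5 n6 u1 d hy

theorem T2.three : ∃ q r : ℕ, q.Prime ∧ r.Prime ∧ q ≠ 2 ∧ r ≠ 2 ∧ q ≠ r ∧ 2 ∣ Nat.card G ∧ q ∣ Nat.card G ∧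
    r ∣ Nat.card G ∧ ∀ p : ℕ, p.Prime → p ∣ Nat.card G → p = 2 ∨ p = q ∨ p = r := by
  have ns : ¬ Group.IsSolvable G := fun _ => bot_ne_top (hZ.symm.trans (eq_top_iff.2 fun x _ =>
    mem_center_iff.2 fun g => IsSimpleGroup.comm_iff_isSolvable.2 ‹_› g x))
  have h3 : ∀ q : ℕ, q.Prime → ∃ r : ℕ, r.Prime ∧ r ∣ Nat.card G ∧ r ≠ 2 ∧ r ≠ q := fun q hq => by
    by_contra e
    push Not at e
    exact ns (H8.isSolvable_of_two_primes Nat.prime_two hq fun r hr d => or_iff_not_imp_left.2 (e r hr d))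
  obtain ⟨q, q1, q2, q3, -⟩ := h3 2 Nat.prime_two
  obtain ⟨r, r1, r2, r3, r4⟩ := h3 q q1
  have d2 : 2 ∣ Nat.card G := by_contra fun e => ns (Cfsg.Agent.S0205.result (Nat.odd_iff.2 (by omega)))
  refine ⟨q, r, q1, r1, q3, r3, r4.symm, d2, q2, r2, fun s hs d => by_contra fun e => ?_⟩
  push Not at e
  have := Fact.mk hs
  obtain ⟨y, hy⟩ := exists_prime_orderOf_dvd_card' s d
  have a := h.four hZ Nat.prime_two q1 r1 hs d2 q2 r2 q3.symm r3.symm e.1.symm r4.symm e.2.1.symm e.2.2.symm hy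
  have b := h.four hZ r1 q1 Nat.prime_two hs r2 q2 d2 r4 r3 e.2.2.symm q3 e.2.1.symm e.1.symm hy
  rcases h y q r 2 q1 r1 Nat.prime_two a.1 a.2 b.2 with e | e | e <;> omega

theorem T2.cent {q : ℕ} [hq : Fact q.Prime] {Q : Sylow q G} (hle : (Q : Subgroup G) ≤ 𝐂(Q)) {y : G}
    (hy : y ∈ (Q : Subgroup G)) (y1 : y ≠ 1) : Cx⟦y⟧ = 𝐂(Q) := by
  refine le_antisymm (le_of_forall_exists_conj_mem fun c hc => ?_) fun c hc => mem_Cx'.2 (hc y hy)
  have y2 := isPElt_of_mem Q.isPGroup' hy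
  have c1 := mem_Cx_iff_commute.1 hc
  have c2 := commute_pReg_of_commute q c1
  have o := coprime_orderOf y2 (not_dvd_orderOf_pReg q c)
  obtain ⟨S, h3, h4⟩ := exists_sylow_ge_le_of_not_dvd_index (H := Cx⟦y * pReg q c⟧) (fun e => not_dvd_cs hle y2
    (h.same hZ y1 (cs_dvd_cs_mul_left c2 o) hq.out e)) (isPElt_iff_zpowers.1 (isPElt_pPart q c))
    (zpowers_le.2 (mem_Cx_iff_commute.2 ((commute_pPart_of_commute q c1).mul_left (commute_pPart_pReg q c).symm)))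
  rw [Cx_mul_of_coprime c2 o, le_inf_iff] at h4
  obtain ⟨g, hg, e⟩ := H4.exists_smul_sylow_eq_of_le S Q h4.1 (le_Cx_iff.2 (hle hy))
  refine ⟨g, hg, ?_⟩
  rw [← e, Sylow.coe_subgroup_smul, H1.centralizer_conj_smul]
  exact smul_mem_pointwise_smul _ _ _ ((mem_iff_pPart_mem_and_pReg_mem q).2
    ⟨le_cent hle S (h3 (mem_zpowers _)), le_Cx_iff.1 h4.2⟩)

theorem T2.dih {q : ℕ} [hq : Fact q.Prime] (q2 : q ≠ 2) (d : q ∣ Nat.card G) (Q : Sylow q G)
    (h2 : (𝐂(Q)).relIndex 𝐍(Q) = 2) : Dih q (Q : Subgroup G) := by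
  have hle : (Q : Subgroup G) ≤ 𝐂(Q) := by_contra fun e => by
    have := Nat.le_of_dvd two_pos (h2 ▸ (sq_dvd Q.isPGroup' e).trans (index_center_dvd _))
    nlinarith [hq.out.two_le]
  exact ⟨hq.out, q2, Q.isPGroup', Q.ne_bot_of_dvd_card d, hle, Q.not_dvd_index, fun y hy y1 => h.cent hZ hle hy y1, h2⟩

set_option maxHeartbeats 600000 in
theorem T2.main : (∀ (s : ℕ) [Fact s.Prime] (S : Sylow s G), (S : Subgroup G) ≤ 𝐂(S)) ∧
    ∀ t : G, orderOf t = 2 → IsPGroup 2 Cx⟦t⟧ := by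
  obtain ⟨q, r, q1, r1, q2, r2, qr, d2, dq, dr, hπ⟩ := h.three hZ
  have := Fact.mk q1
  have := Fact.mk r1
  have oth : ∀ {x : G} {s : ℕ}, x ≠ 1 → s = q ∨ s = r → ¬ s ∣ cs⟦x⟧ → 2 ∣ cs⟦x⟧ := fun {x s} x1 hs e => by
    obtain ⟨a, a1, a2, a3⟩ := exists_pr hZ x1 Nat.prime_two
    obtain ⟨b, b1, b2, b3⟩ := exists_pr hZ x1 a1
    have := hπ a a1 (a3.trans (cs_dvd_card x))
    have := hπ b b1 (b3.trans (cs_dvd_card x))
    have : a ≠ s := fun e' => e (e' ▸ a3)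
    have : b ≠ s := fun e' => e (e' ▸ b3)
    exact (show b = 2 by omega) ▸ b3
  have cov : ∀ x : G, ¬ 2 ∣ cs⟦x⟧ ∨ ¬ q ∣ cs⟦x⟧ ∨ ¬ r ∣ cs⟦x⟧ := fun x => by
    by_contra e
    push Not at e
    rcases h x 2 q r Nat.prime_two q1 r1 e.1 e.2.1 e.2.2 with e | e | e <;> omega
  let P : Sylow 2 G := default
  let Q : Sylow q G := default
  let R : Sylow r G := default
  have c1 := cnt P
  have c2 := cnt Q
  have c3 := cnt R
  have c4 : Nat.card G < {x : G | ¬ 2 ∣ cs⟦x⟧}.ncard + ({x : G | ¬ q ∣ cs⟦x⟧}.ncard + {x : G | ¬ r ∣ cs⟦x⟧}.ncard) := by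
    have h1 := Set.ncard_union_add_ncard_inter {x : G | ¬ q ∣ cs⟦x⟧} {x : G | ¬ r ∣ cs⟦x⟧}
    have h2 := Set.ncard_union_le {x : G | ¬ 2 ∣ cs⟦x⟧} ({x : G | ¬ q ∣ cs⟦x⟧} ∪ {x : G | ¬ r ∣ cs⟦x⟧})
    rw [show {x : G | ¬ 2 ∣ cs⟦x⟧} ∪ ({x : G | ¬ q ∣ cs⟦x⟧} ∪ {x : G | ¬ r ∣ cs⟦x⟧}) = Set.univ from
      Set.eq_univ_of_forall cov, Set.ncard_univ] at h2
    have : 0 < ({x : G | ¬ q ∣ cs⟦x⟧} ∩ {x : G | ¬ r ∣ cs⟦x⟧}).ncard := (Set.ncard_pos).2
      ⟨1, by simpa [cs_one] using q1.ne_one, by simpa [cs_one] using r1.ne_one⟩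
    omega
  have g2 : ∀ {p : ℕ} [Fact p.Prime], p ∣ Nat.card G → ∀ S : Sylow p G, 2 ≤ (𝐂(S)).relIndex 𝐍(S) := fun d S => by
    have := mt relIndex_eq_one.1 (two_le hZ d S)
    have : (𝐂(S)).relIndex 𝐍(S) ≠ 0 := index_ne_zero_of_finite
    omega
  have sq : ∀ {p : ℕ} [Fact p.Prime] (S : Sylow p G), (S : Subgroup G) ≤ 𝐂(S) ∨ p ^ 2 ≤ (𝐂(S)).relIndex 𝐍(S) :=
    fun S => or_iff_not_imp_left.2 fun e => Nat.le_of_dvd (Nat.pos_of_ne_zero index_ne_zero_of_finite)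
      ((sq_dvd S.isPGroup' e).trans (index_center_dvd _))
  have g3 : 3 ≤ (𝐂(P)).relIndex 𝐍(P) := by
    have := g2 d2 P
    rcases sq P with e | e
    · have : ¬ 2 ∣ (𝐂(P)).relIndex 𝐍(P) := fun d => P.not_dvd_index
        (d.trans ((relIndex_dvd_index_of_le (centralizer_le_normalizer _)).trans (index_dvd_of_le e)))
      omega
    · omega
  have gq := g2 dq Q
  have gr := g2 dr R
  have sP := sq P
  have sQ := sq Q
  have sR := sq R
  have dQ := h.dih hZ q2 dq Q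
  have dR := h.dih hZ r2 dr R
  have iP := index_center_dvd (P : Subgroup G)
  generalize (𝐂(P)).relIndex 𝐍(P) = a at *
  generalize (𝐂(Q)).relIndex 𝐍(Q) = b at *
  generalize (𝐂(R)).relIndex 𝐍(R) = c at *
  have ineq : a * b * c < b * c + a * c + a * b := by
    refine lt_of_mul_lt_mul_right (a := Nat.card G) ?_ (Nat.zero_le _)
    have := Nat.mul_lt_mul_of_pos_left c4 (show 0 < a * b * c by positivity)
    nlinarith [Nat.mul_le_mul_left (b * c) c1, Nat.mul_le_mul_left (a * c) c2, Nat.mul_le_mul_left (a * b) c3]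
  have b5 : b ≤ 5 := by
    by_contra e
    obtain ⟨a, rfl⟩ := Nat.exists_eq_add_of_le g3
    obtain ⟨c, rfl⟩ := Nat.exists_eq_add_of_le gr
    obtain ⟨b, rfl⟩ := Nat.exists_eq_add_of_le (show 6 ≤ b by omega)
    nlinarith [Nat.zero_le (a * b * c), Nat.zero_le (a * b), Nat.zero_le (a * c), Nat.zero_le (b * c)]
  have c5 : c ≤ 5 := by
    by_contra e
    obtain ⟨a, rfl⟩ := Nat.exists_eq_add_of_le g3
    obtain ⟨b, rfl⟩ := Nat.exists_eq_add_of_le gq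
    obtain ⟨c, rfl⟩ := Nat.exists_eq_add_of_le (show 6 ≤ c by omega)
    nlinarith [Nat.zero_le (a * b * c), Nat.zero_le (a * b), Nat.zero_le (a * c), Nat.zero_le (b * c)]
  have aQ : (Q : Subgroup G) ≤ 𝐂(Q) := sQ.resolve_right (by nlinarith [show 3 ≤ q by have := q1.two_le; omega])
  have aR : (R : Subgroup G) ≤ 𝐂(R) := sR.resolve_right (by nlinarith [show 3 ≤ r by have := r1.two_le; omega])
  have pg : ∀ {x : G}, IsPElt 2 x → x ≠ 1 → ¬ 2 ∣ cs⟦x⟧ → IsPGroup 2 Cx⟦x⟧ := fun {x} hx x1 e =>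
    IsPGroup.of_card (Nat.eq_prime_pow_of_unique_prime_dvd Nat.card_pos.ne' fun {s} hs d => by_contra fun s2 => by
      have := Fact.mk hs
      obtain ⟨⟨y, hy⟩, o⟩ := exists_prime_orderOf_dvd_card' s d
      rw [← orderOf_coe] at o
      have hs' := (hπ s hs (d.trans (card_subgroup_dvd_card _))).resolve_left s2
      refine e (h.cop hZ x1 (mem_Cx_iff_commute.1 hy) (cop_of_pElt Nat.prime_two hs (Ne.symm s2) hx (pElt_of_prime o))
        Nat.prime_two (oth (ne_one_of_prime (o ▸ hs)) hs' ?_))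
      rcases hs' with rfl | rfl
      exacts [not_dvd_cs aQ (pElt_of_prime o), not_dvd_cs aR (pElt_of_prime o)])
  have mx : ∀ {x : G} {K : Subgroup G}, ¬ 2 ∣ cs⟦x⟧ → IsPGroup 2 K → Cx⟦x⟧ ≤ K → K ≤ Cx⟦x⟧ := fun {x K} e hK l => by
    obtain ⟨S, hS⟩ := not_dvd_cs_iff.1 e
    exact (S.3 hK (hS.trans l)).le.trans hS
  suffices aP : (P : Subgroup G) ≤ 𝐂(P) by
    refine ⟨fun s hs S => ?_, fun t ht =>
      pg (pElt_of_prime ht) (ne_one_of_prime (ht ▸ Nat.prime_two)) (not_dvd_cs aP (pElt_of_prime ht))⟩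
    by_cases d : s ∣ Nat.card G
    · rcases hπ s hs.out d with rfl | rfl | rfl
      exacts [le_cent aP S, le_cent aQ S, le_cent aR S]
    · intro x hx
      rw [(isPElt_of_mem S.isPGroup' hx).eq_one_of_not_dvd fun e => d (e.trans (orderOf_dvd_natCard x))]
      exact one_mem _
  by_contra nP
  have a4 := sP.resolve_left nP
  suffices H : ∀ x ∈ (P : Subgroup G), x ∉ 𝐂(P) → x * x = 1 by
    refine nP fun x hx => by_contra fun x1 => x1 fun y hy => by_contra fun e => e ?_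
    have e1 := H x hx x1
    have e2 := H y hy fun e' => e (e' x hx).symm
    have e3 := H (y * x) (mul_mem hy hx) fun e' => e (by simpa [mul_assoc] using (e' y hy).symm : x * y = y * x).symm
    rw [eq_inv_of_mul_eq_one_left e3, mul_inv_rev, inv_eq_of_mul_eq_one_right e1, inv_eq_of_mul_eq_one_right e2]
  intro x hx x1
  by_contra x2
  have px := isPElt_of_mem P.isPGroup' hx
  have sq2 : ∀ {x : G}, IsPElt 2 x → x * x ≠ 1 → ¬ 2 ∣ cs⟦x * x⟧ → Cx⟦x * x⟧ ≤ Cx⟦x⟧ := fun {x} px x2 e => by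
    rw [← pow_two] at *
    exact mx (fun d => e (h.same hZ x2 (cs_pow_dvd x 2) Nat.prime_two d)) (pg (px.pow 2) x2 e) (Cx_le_pow x 2)
  by_cases bc : b = 2 ∧ c = 2
  · obtain ⟨z, z1, z2, z3⟩ := exists_central P d2
    have z4 := ne_one_of_prime (z2 ▸ Nat.prime_two)
    have z5 : z * z = 1 := by rw [← pow_two, ← z2, pow_orderOf_eq_one]
    have z6 := not_dvd_cs_iff.2 ⟨P, z3⟩
    have z7 := pg (pElt_of_prime z2) z4 z6
    have nd : ∀ {s : ℕ}, s.Prime → s ≠ 2 → ¬ s ∣ Nat.card Cx⟦z⟧ := fun hs s2 d => by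
      obtain ⟨k, hk⟩ := IsPGroup.iff_card.1 z7
      exact s2 ((Nat.prime_dvd_prime_iff_eq hs Nat.prime_two).1 (hs.dvd_of_dvd_pow (hk ▸ d)))
    classical
    have := Fintype.ofFinite G
    have pR := (dQ bc.1).pgroup hZ hπ z4 z5 z6 (nd q1 q2) R
    have pQ := (dR bc.2).pgroup hZ (fun p hp d => by have := hπ p hp d; omega) z4 z5 z6 (nd r1 r2) Q
    have all : ∀ {x : G}, IsPElt 2 x → x ≠ 1 → ¬ 2 ∣ cs⟦x⟧ := fun {x} px x1 => by
      have key : ∀ {s : ℕ} [Fact s.Prime] (S : Sylow s G), s ≠ 2 → IsPGroup s 𝐂(S) → s ∣ cs⟦x⟧ := fun {s} hs S s2 pS =>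
        by_contra fun e => by
          obtain ⟨g, hg⟩ := exists_conj_mem_centralizer_sylow e S
          exact x1 (conj_eq_one_iff.1 ((isPElt_of_mem pS hg).eq_one_of_not_dvd
            (not_dvd_of_pElt hs.out Nat.prime_two s2.symm (px.conj g))))
      have := cov x
      have := key Q q2 pQ
      have := key R r2 pR
      tauto
    have cz := mem_Cx_iff_commute'.1 (z3 hx)
    have e : x * z * (x * z) = x * x := by rw [← pow_two, cz.mul_pow, pow_two, pow_two, z5, mul_one]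
    have e2 := all (px.mul px rfl) x2
    have l1 := sq2 px x2 e2
    have l2 := sq2 (px.mul (pElt_of_prime z2) cz) (e ▸ x2) (e ▸ e2)
    rw [e] at l2
    have l3 : Cx⟦x⟧ ≤ Cx⟦z⟧ := fun g hg => by
      have := mem_Cx.1 (l2 (by simpa [pow_two] using Cx_le_pow x 2 hg))
      rw [← mul_assoc, mem_Cx.1 hg, mul_assoc, mul_assoc, mul_left_cancel_iff] at this
      exact mem_Cx.2 this
    exact x1 (le_Cx_iff.1 (z3.trans (mx (all px fun e => x2 (by simp [e])) z7 l3)))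
  · have a5 : a ≤ 5 := by
      by_contra e
      obtain ⟨a, rfl⟩ := Nat.exists_eq_add_of_le (show 6 ≤ a by omega)
      interval_cases b <;> interval_cases c <;> omega
    have e := sq_mem nP (Nat.dvd_antisymm (by
      have := (sq_dvd P.isPGroup' nP).trans iP
      obtain rfl : a = 4 := by omega
      exact iP) (sq_dvd P.isPGroup' nP)) hx
    exact x1 (le_Cx_iff.1 ((le_Cx_iff.2 e).trans (sq2 px x2 (not_dvd_cs_iff.2 ⟨P, le_Cx_iff.2 e⟩))))

theorem T2.ac : AC G := fun t x y ht hx hy => by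
  obtain ⟨S, hS⟩ := ((h.main hZ).2 t ht).exists_le_sylow
  have h1 : x ∈ (S : Subgroup G) := hS (mem_Cx.2 hx)
  have h2 : y ∈ (S : Subgroup G) := hS (mem_Cx.2 hy)
  exact mem_centralizer_iff.1 ((h.main hZ).1 2 S h2) x h1

end simple

end H50.TP
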